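import Cfsg.Agent.Lib.Grp.A6.D0

set_option autoImplicit false
set_option maxRecDepth 100000
set_option Elab.async false

namespace Cfsg.Agent.CG.A6

noncomputable def tabs : List ℕ := [t0,t1,t2,t3,t4,t5,t6,t7,t8,t9,t10,t11,t12,t13,t14,t15,t16,t17,t18,t19,t20,t21]
noncomputable abbrev app : ℕ → ℕ → ℕ := appT tabs t22 0xff
noncomputable def slpL : List (Bool × List ℕ) := [(false,[]),
  (false,[]),
  (false,[]),
  (false,[]),
  (false,[0,3,0,0,0,3,3]),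
  (true,[4]),
  (false,[0,4,2,4,0,2,2]),
  (true,[6]),
  (false,[5,7,7,3,6,5,7]),
  (true,[8]),
  (false,[0,5,8,2,4,1,6,1,9]),
  (true,[10]),
  (false,[11,11,0,8,0,2,6,4,7,5,3]),
  (false,[11,11,0,3,9,7,4,2,9,4,8]),
  (true,[13]),
  (false,[12,11,11,1,3,0,2,5,6,8,1,2]),
  (true,[15]),
  (false,[16]),
  (true,[17]),
  (false,[13,16]),
  (false,[10,12,13,16]),
  (false,[1,11,11,13])]
noncomputable def slp (a : ℕ) : Bool × List ℕ := nth slpL (false, []) a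
noncomputable def invL : List ℕ := [1,0,3,2,5,4,7,6,9,8,11,10,12,14,13,16,15,18,17,19,20,21]
noncomputable def inv (a : ℕ) : ℕ := nth invL 22 a
noncomputable def bs : List ℕ := [0,8,24,16]
noncomputable def mc0 : Lvl := ⟨0, [0,1,4,5,6,7], 6,
  fun i => look 0xff mc0c (Nat.mul 8 i), fun i => look 0xf mc0p (Nat.mul 4 i),
  fun i => look 255 mc0l (Nat.mul 8 i), fun i => look 255 mc0i (Nat.mul 8 i), fun x => look 0xff mc0q x, 2⟩
noncomputable def mc1 : Lvl := ⟨8, [10,11], 5,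
  fun i => look 0xff mc1c (Nat.mul 8 i), fun i => look 0xf mc1p (Nat.mul 4 i),
  fun i => look 255 mc1l (Nat.mul 8 i), fun i => look 255 mc1i (Nat.mul 8 i), fun x => look 0xff mc1q x, 2⟩
noncomputable def mc2 : Lvl := ⟨24, [12,13,14], 4,
  fun i => look 0xff mc2c (Nat.mul 8 i), fun i => look 0xf mc2p (Nat.mul 4 i),
  fun i => look 255 mc2l (Nat.mul 8 i), fun i => look 255 mc2i (Nat.mul 8 i), fun x => look 0xff mc2q x, 2⟩
noncomputable def mc3 : Lvl := ⟨16, [15,16], 3,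
  fun i => look 0xff mc3c (Nat.mul 8 i), fun i => look 0xf mc3p (Nat.mul 4 i),
  fun i => look 255 mc3l (Nat.mul 8 i), fun i => look 255 mc3i (Nat.mul 8 i), fun x => look 0xff mc3q x, 1⟩
noncomputable def mc : List Lvl := [mc0, mc1, mc2, mc3]
noncomputable def tcR : List (List ℕ) := [[17,18],
  [18,17],
  [17,17,17],
  [19,19],
  [19,17,19,17,19,17],
  [20,20],
  [20,17,20,17],
  [20,19,20,19,20,19],
  [21,21],
  [21,20,21,20],
  [21,17,21,17,21,17],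
  [21,19,21,19,21,19],
  [21,19,17,19,21,18,19,18]]
noncomputable def tc0T : List ℕ := [0,0,0,0,0,0,0,0,0,0,0,0,0,0,0,0,0,tc0t17,tc0t18,tc0t19,tc0t20,tc0t21]
noncomputable def tc0r : Tr Rule := (.node (.node (.node (.node (.leaf ⟨21,[21],8,1⟩) (.leaf ⟨19,[20,19,20,19,20],7,3⟩)) (.node (.leaf ⟨20,[20],5,1⟩) (.leaf ⟨19,[18,21,19,17,19,21,18],12,6⟩))) (.node (.node (.leaf ⟨17,[18],0,0⟩) (.leaf ⟨21,[19,21,19,21,19],11,4⟩)) (.node (.leaf ⟨20,[21,20,21],9,3⟩) (.leaf ⟨18,[19,18,21,19,17,19,21],12,5⟩)))) (.node (.node (.node (.leaf ⟨18,[17],0,1⟩) (.leaf ⟨21,[17,21,17,21,17],10,4⟩)) (.node (.leaf ⟨17,[17,17],2,2⟩) (.leaf ⟨17,[19,21,18,19,18,21,19],12,2⟩))) (.node (.node (.leaf ⟨19,[19],3,1⟩) (.leaf ⟨21,[20,21,20],9,2⟩)) (.node (.leaf ⟨20,[17,20,17],6,2⟩) (.leaf ⟨17,[20,17,20],6,3⟩)))))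
noncomputable def tc0 : TCL := ⟨[17,18,19,20,21], [17,18,19,20], 6, 16, 0x7f, 7, 0x1f,
  fun a x => look 0xffff (nth tc0T 0 a) x, fun x => look 0xffff tc0d x, tc0r⟩
noncomputable def tc1T : List ℕ := [0,0,0,0,0,0,0,0,0,0,0,0,0,0,0,0,0,tc1t17,tc1t18,tc1t19,tc1t20]
noncomputable def tc1r : Tr Rule := (.node (.node (.node (.node (.leaf ⟨20,[20],5,1⟩) (.leaf ⟨20,[17,20,17],6,2⟩)) (.leaf ⟨17,[17,17],2,2⟩)) (.node (.leaf ⟨18,[17],0,1⟩) (.leaf ⟨19,[17,19,17,19,17],4,4⟩))) (.node (.node (.leaf ⟨19,[19],3,1⟩) (.leaf ⟨17,[20,17,20],6,3⟩)) (.node (.leaf ⟨17,[18],0,0⟩) (.leaf ⟨20,[19,20,19,20,19],7,4⟩))))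
noncomputable def tc1 : TCL := ⟨[17,18,19,20], [17,18,19], 5, 16, 0x7f, 7, 0xf,
  fun a x => look 0xffff (nth tc1T 0 a) x, fun x => look 0xffff tc1d x, tc1r⟩
noncomputable def tc2T : List ℕ := [0,0,0,0,0,0,0,0,0,0,0,0,0,0,0,0,0,tc2t17,tc2t18,tc2t19]
noncomputable def tc2r : Tr Rule := (.node (.node (.node (.leaf ⟨19,[19],3,1⟩) (.leaf ⟨19,[17,19,17,19,17],4,4⟩)) (.leaf ⟨17,[18],0,0⟩)) (.node (.leaf ⟨18,[17],0,1⟩) (.leaf ⟨17,[17,17],2,2⟩)))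
noncomputable def tc2 : TCL := ⟨[17,18,19], [17,18], 4, 16, 0x7f, 7, 0x7,
  fun a x => look 0xffff (nth tc2T 0 a) x, fun x => look 0xffff tc2d x, tc2r⟩
noncomputable def tc3T : List ℕ := [0,0,0,0,0,0,0,0,0,0,0,0,0,0,0,0,0,tc3t17,tc3t18]
noncomputable def tc3r : Tr Rule := (.node (.node (.leaf ⟨18,[17],0,1⟩) (.leaf ⟨17,[17,17],2,2⟩)) (.leaf ⟨17,[18],0,0⟩))
noncomputable def tc3 : TCL := ⟨[17,18], [], 3, 16, 0x3f, 6, 0x7,
  fun a x => look 0xffff (nth tc3T 0 a) x, fun x => look 0xffff tc3d x, tc3r⟩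
noncomputable def tc : List TCL := [tc0, tc1, tc2, tc3]
noncomputable def inW : List (List ℕ) := [[20,19,21,20],
  [21,19,20,19],
  [19,20,18,19,18],
  [17,19,20,18,19]]
noncomputable def tcS : List ℕ := [17,18,19,20,21]

end Cfsg.Agent.CG.A6
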